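import Groth.Agent.RelSerreLib.ExtendOn
import Groth.Agent.EGA2SymLib.PBTensor
import Groth.Agent.QuotSchLib.Serre
import Groth.Agent.MiscFlat6.CounitTwist
import Groth.Agent.PicPnLib.BaseChange
import Groth.Agent.GrTwistLib.Ample
import Groth.Agent.AmpleDevLib.Pull
import Groth.Agent.SerreVanLib.Rpush
import Groth.Agent.QCohLib.Push

/-!
# Quasi-coherent modules on relative projective space are quotients of twisted inverse images
-/

set_option autoImplicit false
set_option backward.isDefEq.respectTransparency false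
set_option backward.isDefEq.respectTransparency.types false
universe u
open CategoryTheory CategoryTheory.Limits AlgebraicGeometry TopologicalSpace Opposite
open AmpleLib AmpleThLib
open TwistLib (genSet)

noncomputable section

namespace RelSerreLib

variable {X Y : Scheme.{u}}

/-- Tensoring on the right. -/
abbrev tR (B : X.Modules) : X.Modules ⥤ X.Modules := (DCoh.tensorBi (X := X)).flip.obj B

def tRIso (B : X.Modules) : tR B ≅ CurvLib.tensorLeft' B :=
  NatIso.ofComponents (fun A => KFlatLib.tensSwap B A) fun {A A'} g =>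
    (DCoh.shP.map_comp _ _).symm.trans ((congrArg DCoh.shP.map
      (BraidedCategory.braiding_naturality_left (DCoh.toP.map g) (DCoh.toP.obj B))).trans
        (DCoh.shP.map_comp _ _))

theorem isEquivalence_tR {B B' : X.Modules} (e : CohB1.tensorMod B B' ≅ Coh.structureModule X) :
    (tR B).IsEquivalence :=
  haveI := VBP1Lib.isEquivalence_tensor e
  Functor.isEquivalence_of_iso (tRIso B).symm

/-- The twisted counit. -/
theorem exists_counit_untwist (f : X ⟶ Y) (F : X.Modules) {B B' : X.Modules}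
    (e : CohB1.tensorMod B B' ≅ Coh.structureModule X) :
    ∃ p : CohB1.tensorMod ((Scheme.Modules.pullback f).obj
        ((Scheme.Modules.pushforward f).obj (CohB1.tensorMod F B))) B' ⟶ F,
      ∀ {M : X.Modules} (q : F ⟶ M), p ≫ q = 0 →
        ∀ (V : Y.Opens) (s : Γ(CohB1.tensorMod F B, f ⁻¹ᵁ V)), ((tR B).map q).app (f ⁻¹ᵁ V) s = 0 := by
  haveI := isEquivalence_tR e
  let E := (tR B).asEquivalence
  let A := CohB1.tensorMod F B
  let adj := Scheme.Modules.pullbackPushforwardAdjunction f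
  let C := (Scheme.Modules.pullback f).obj ((Scheme.Modules.pushforward f).obj A)
  let r : (tR B).obj (CohB1.tensorMod C B') ≅ C :=
    HilbPolyLib.assocIso C B' B ≪≫ HilbPolyLib.congrRight C (HilbPolyLib.swapIso B' B ≪≫ e) ≪≫
      PicPnLib.unitRight C
  let φ : CohB1.tensorMod C B' ≅ E.inverse.obj C :=
    (tR B).preimageIso (r ≪≫ (E.counitIso.app C).symm)
  refine ⟨φ.hom ≫ E.inverse.map (adj.counit.app A) ≫ E.unitIso.inv.app F, fun {M} q hq V s => ?_⟩
  have h1 : E.inverse.map (adj.counit.app A) ≫ E.inverse.map ((tR B).map q) ≫ E.unitIso.inv.app M = 0 := by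
    have hn : E.inverse.map ((tR B).map q) ≫ E.unitIso.inv.app M = E.unitIso.inv.app F ≫ q :=
      E.unitIso.inv.naturality q
    rw [hn]
    refine (cancel_epi φ.hom).1 ?_
    rw [comp_zero]
    simpa [Category.assoc] using hq
  rw [← Category.assoc, ← Functor.map_comp] at h1
  have h2 : E.inverse.map (adj.counit.app A ≫ (tR B).map q) = 0 :=
    (cancel_mono (E.unitIso.inv.app M)).1 (h1.trans zero_comp.symm)
  have h3 : adj.counit.app A ≫ (tR B).map q = 0 :=
    E.inverse.map_injective (h2.trans (E.inverse.map_zero _ _).symm)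
  have hpush : (Scheme.Modules.pushforward f).map ((tR B).map q) = 0 := by
    calc (Scheme.Modules.pushforward f).map ((tR B).map q)
        = (adj.unit.app ((Scheme.Modules.pushforward f).obj A) ≫
            (Scheme.Modules.pushforward f).map (adj.counit.app A)) ≫
              (Scheme.Modules.pushforward f).map ((tR B).map q) := by
          rw [adj.right_triangle_components]; exact (Category.id_comp _).symm
      _ = 0 := by rw [Category.assoc, ← Functor.map_comp, h3, Functor.map_zero, comp_zero]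
  exact congrArg (fun ψ : (Scheme.Modules.pushforward f).obj A ⟶ _ => ψ.app V s) hpush

/-- Sums of twisted counits are epimorphisms. -/
theorem exists_epi [QuasiSeparatedSpace X] (f : X ⟶ Y) [QuasiCompact f] (F : X.Modules) [Coh.IsQCoh F]
    {P : X.Modules} (hP : PicF.IsInvertible P) (B' : ℕ → X.Modules)
    (hB : ∀ j, Nonempty (CohB1.tensorMod (CohB1.tensorPow P (j + 1)) (B' j) ≅ Coh.structureModule X))
    (hcov : ∀ x : X, ∃ (V : Y.Opens) (t : Γ(P, ⊤)), IsAffineOpen V ∧ x ∈ genSet hP t ⊓ f ⁻¹ᵁ V ∧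
      IsAffineOpen (genSet hP t ⊓ f ⁻¹ᵁ V)) :
    ∃ p : (∐ fun j : ULift.{u} ℕ => CohB1.tensorMod ((Scheme.Modules.pullback f).obj
        ((Scheme.Modules.pushforward f).obj (CohB1.tensorMod F (CohB1.tensorPow P (j.down + 1))))) (B' j.down)) ⟶ F,
      Epi p := by
  choose p hp using fun j : ULift.{u} ℕ => exists_counit_untwist f F (hB j.down).some
  refine ⟨Sigma.desc p, Preadditive.epi_of_cancel_zero _ fun {M : X.Modules} (q : F ⟶ M) hq => ?_⟩
  choose V t hV hx ha using hcov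
  refine MiscFlat6.eq_zero_of_affine_cover (fun x => genSet hP (t x) ⊓ f ⁻¹ᵁ V x) ha (fun x => ⟨x, hx x⟩) F q ?_
  intro x w
  obtain ⟨N, hN⟩ := exists_extend_on hP F (f ⁻¹ᵁ V x)
    (QuasiCompact.isCompact_preimage _ (V x).2 (hV x).isCompact) (t x) w
  obtain ⟨u, hu⟩ := hN (N + 1) (Nat.le_succ N)
  have hq' : p ⟨N⟩ ≫ q = 0 := by
    rw [← Sigma.ι_desc p ⟨N⟩, Category.assoc, hq, comp_zero]
  have h0 := hp ⟨N⟩ q hq' (V x) u
  let T := genSet hP (t x) ⊓ f ⁻¹ᵁ V x
  let g := res (CohB1.tensorPow P (N + 1)) (le_top : T ≤ ⊤) (pS (t x) (N + 1))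
  have hg : GenOn (CohB1.tensorPow P (N + 1)) g := by
    show GenOn _ (res _ le_top (pS (t x) (N + 1)))
    rw [pS_res]
    refine pS_genOn ?_ (N + 1)
    have h := (TwistLib.genSet_genOn hP (t x)).res (inf_le_left : T ≤ genSet hP (t x))
    rwa [res_res] at h
  have h1 : (shT (q.app T w) g : Γ(CohB1.tensorMod M (CohB1.tensorPow P (N + 1)), T)) = 0 := by
    refine (EGA2SymLib.tensMap_shT q (CohB1.tensorPow P (N + 1)) w g).symm.trans ?_
    rw [← hu]
    show ((tR (CohB1.tensorPow P (N + 1))).map q).app T (res _ (inf_le_right : T ≤ f ⁻¹ᵁ V x) u) = 0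
    exact (QCohLib.app_map ((tR (CohB1.tensorPow P (N + 1))).map q) _ u).trans ((congrArg _ h0).trans (map_zero _))
  refine TwistLib.mod_ext M fun y hy => ?_
  refine (NegTwistLib.bijective_jmap M hg hy).1 ?_
  dsimp only
  have h2 := congrArg ((CohB1.tensorMod M (CohB1.tensorPow P (N + 1))).presheaf.germ T y hy) h1
  rw [NegTwistLib.germ_shT, map_zero] at h2
  rw [map_zero, TensorProduct.zero_tmul, map_zero]
  exact h2

/-- The packaged form. -/
theorem exists_epi_qcoh [QuasiSeparatedSpace X] (f : X ⟶ Y) [QuasiCompact f] [QuasiSeparated f] (F : X.Modules)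
    (hF : Coh.IsQCoh F) {P : X.Modules} (hP : PicF.IsInvertible P) (T : ℤ → X.Modules)
    (hB : ∀ j : ℕ, Nonempty (CohB1.tensorMod (CohB1.tensorPow P j) (T (-((j : ℕ) : ℤ))) ≅ Coh.structureModule X))
    (hcov : ∀ x : X, ∃ (V : Y.Opens) (t : Γ(P, ⊤)), IsAffineOpen V ∧ x ∈ genSet hP t ⊓ f ⁻¹ᵁ V ∧
      IsAffineOpen (genSet hP t ⊓ f ⁻¹ᵁ V)) :
    ∃ (ι : Type u) (G : ι → Y.Modules) (m : ι → ℕ)
      (p : (∐ fun j => CohB1.tensorMod ((Scheme.Modules.pullback f).obj (G j)) (T (-((m j : ℕ) : ℤ)))) ⟶ F),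
      (∀ j, Coh.IsQCoh (G j)) ∧ (∀ j, 0 < m j) ∧ Epi p := by
  haveI := hF
  obtain ⟨p, hp⟩ := exists_epi f F hP (fun j => T (-(((j + 1 : ℕ) : ℕ) : ℤ))) (fun j => hB (j + 1)) hcov
  have hq : ∀ j : ULift.{u} ℕ, Coh.IsQCoh
      ((Scheme.Modules.pushforward f).obj (CohB1.tensorMod F (CohB1.tensorPow P (j.down + 1)))) := fun j => by
    haveI := MiscFlat6.isQCoh_tensor (M := F) (AmpleThLib.tensorPow_isInvertible hP (j.down + 1))
    exact QCohLib.isQCoh_pushforward f _
  have hm : ∀ j : ULift.{u} ℕ, 0 < j.down + 1 := fun j => Nat.succ_pos _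
  refine Exists.intro (ULift.{u} ℕ) (Exists.intro
    (fun j => (Scheme.Modules.pushforward f).obj (CohB1.tensorMod F (CohB1.tensorPow P (j.down + 1))))
    (Exists.intro (fun j => j.down + 1) ?_))
  beta_reduce at p hp ⊢
  exact ⟨p, hq, hm, hp⟩

section Proj

theorem nonempty_twistOver_inverse (n : ℕ) (S : Scheme.{u}) {P : (CohB1.ProjSpaceOver n S).Modules} (j : ℕ)
    (e : P ≅ Twist.twistOver n S (j : ℤ)) :
    Nonempty (CohB1.tensorMod P (Twist.twistOver n S (-((j : ℕ) : ℤ))) ≅ Coh.structureModule _) :=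
  ⟨HilbPolyLib.congrLeft e _ ≪≫ (PicPnLib.twistOver_neg n S (j : ℤ)).some⟩

theorem nonempty_pow_twistOver (n : ℕ) (S : Scheme.{u}) : ∀ k : ℕ,
    Nonempty (CohB1.tensorPow (Twist.twistOver n S 1) k ≅ Twist.twistOver n S (k : ℤ))
  | 0 => ⟨(PicPnLib.twistOver_zero n S).some.symm⟩
  | k + 1 => ⟨HilbPolyLib.congrLeft (nonempty_pow_twistOver n S k).some _ ≪≫
      (PicPnLib.twistOver_add n S (k : ℤ) 1).some ≪≫ eqToIso (by push_cast; rfl)⟩

/-- Coordinate loci. -/
theorem exists_locus (n : ℕ) (S : Scheme.{u}) (x : ↥(CohB1.ProjSpaceOver n S)) :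
    ∃ (V : S.Opens) (t : Γ(Twist.twistOver n S 1, ⊤)), IsAffineOpen V ∧
      x ∈ genSet (PicPnLib.twistOver_inv n S 1) t ⊓ (CohB1.ProjSpaceOver.toBase n S) ⁻¹ᵁ V ∧
      IsAffineOpen (genSet (PicPnLib.twistOver_inv n S 1) t ⊓ (CohB1.ProjSpaceOver.toBase n S) ⁻¹ᵁ V) := by
  let π := CohB1.ProjSpaceOver.toBase n S
  let c : CohB1.ProjSpaceOver n S ⟶ CohB1.ProjSpace n (ULift.{u} ℤ) := pullback.fst _ _
  obtain ⟨V, hV, hxV, -⟩ := exists_isAffineOpen_mem_and_subset (U := (⊤ : S.Opens)) (x := π x) trivial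
  obtain ⟨i, hi⟩ := Opens.mem_iSup.1 ((QCohLib.iSup_stdOpen n (ULift.{u} ℤ)).ge (show c x ∈ (⊤ : Opens _) from trivial))
  let 𝒜 := CohB1.polyGrading n (ULift.{u} ℤ)
  let a : 𝒜 1 := ⟨MvPolynomial.X i, MvPolynomial.isHomogeneous_X _ i⟩
  let σ : Γ(Twist.twistProjSpace n (ULift.{u} ℤ) 1, ⊤) := GrTwist.globalOf 𝒜 a
  have hσ : genSet (PicPnLib.twist_inv n (ULift.{u} ℤ) 1) σ = QCohLib.stdOpen n (ULift.{u} ℤ) i :=
    GrTwistLib.genSet_globalOf 𝒜 (d := 1) (PicPnLib.twist_inv n (ULift.{u} ℤ) 1)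
      (fun y => by
        obtain ⟨j, hj⟩ := Opens.mem_iSup.1 ((QCohLib.iSup_stdOpen n (ULift.{u} ℤ)).ge (show y ∈ (⊤ : Opens _) from trivial))
        exact ⟨MvPolynomial.X j, MvPolynomial.isHomogeneous_X _ j, hj⟩) a
  refine ⟨V, KFlatLib.puSec c σ, hV, ?_⟩
  have hT : genSet (PicPnLib.twistOver_inv n S 1) (show Γ(Twist.twistOver n S 1, ⊤) from KFlatLib.puSec c σ) =
      c ⁻¹ᵁ QCohLib.stdOpen n (ULift.{u} ℤ) i := by
    rw [← hσ]
    exact AmpleDevLib.genSet_puSec c (PicPnLib.twist_inv n (ULift.{u} ℤ) 1) σ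
  rw [hT]
  refine ⟨⟨hi, hxV⟩, ?_⟩
  let q : ((π ⁻¹ᵁ V : (CohB1.ProjSpaceOver n S).Opens) : Scheme.{u}) ⟶ Spec (CommRingCat.of Γ(S, V)) :=
    RpushLib.overW π hV
  have h1 := (CohBCLib.isPullback_overW π hV)
  have h2 : IsPullback c π (CohB1.ProjSpace.toSpec n (ULift.{u} ℤ)) (specULiftZIsTerminal.from S) :=
    IsPullback.of_hasPullback _ _
  have h3 := h1.paste_horiz h2
  haveI : IsAffineHom ((π ⁻¹ᵁ V).ι ≫ c) :=
    MorphismProperty.of_isPullback (P := @IsAffineHom) h3.flip (inferInstance :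
      IsAffineHom (hV.fromSpec ≫ specULiftZIsTerminal.from S))
  have hst : IsAffineOpen (QCohLib.stdOpen n (ULift.{u} ℤ) i) :=
    Proj.isAffineOpen_basicOpen _ _ (MvPolynomial.isHomogeneous_X _ i) one_pos
  have h4 := (hst.preimage ((π ⁻¹ᵁ V).ι ≫ c)).image_of_isOpenImmersion (π ⁻¹ᵁ V).ι
  rw [Scheme.Hom.comp_preimage, Scheme.Hom.image_preimage_eq_opensRange_inf, Scheme.Opens.opensRange_ι,
    inf_comm] at h4
  exact h4

end Proj

end RelSerreLib

end
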